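import Groth.Agent.H8.FieldDescent.Main
import Groth.Agent.Lib.AlgSpLimit.SchemeStage
import Groth.Agent.Lib.ActSep.SubgroupClosed
import Mathlib.AlgebraicGeometry.AlgClosed.Basic

/-! # The schematic locus of a space over an algebraically closed field and of its base changes -/

set_option autoImplicit false
set_option linter.style.haveILetI false
set_option backward.isDefEq.respectTransparency false
set_option backward.isDefEq.respectTransparency.types false

universe u

open CategoryTheory CategoryTheory.Limits AlgebraicGeometry Opposite Topology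
open AlgSp (Sp yon RepWith IsAlgSpace IsAffineMor IsQuasiCompactSp IsQuasiSeparatedSp Points)
open Groth.Agent.Lib Groth.Agent.Lib.AlgSpace Groth.Agent.Lib.AlgSpMor
open Groth.Agent.H8.FieldDescent.Stage Groth.Agent.H8.FieldDescent.Main

namespace Groth.Agent.H8.AlgClosedSchLocus.Basic

section Stage

variable {A₀ : CommRingCat.{u}} {J : Type u} [SmallCategory J] [IsFiltered J]

/-- An affine open of the base change to a filtered colimit maps to an open scheme of some stage. -/
theorem exists_open_stage (F : J ⥤ CommRingCat.{u}) (ρ : (Functor.const J).obj A₀ ⟶ F)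
    (c : Cocone F) (hc : IsColimit c) (r : A₀ ⟶ c.pt) (hr : ∀ j, ρ.app j ≫ c.ι.app j = r)
    {X : Sp (Spec A₀)} (hX : IsAlgSpace X) (hqc : IsQuasiCompactSp X)
    (hqs : IsQuasiSeparatedSp X) {T : Over (Spec A₀)} [IsAffine T.left]
    (jT : (yon (Spec A₀)).obj T ⟶ bc X r) (hjT : RepWith @IsOpenImmersion jT) (t : T.left) :
    ∃ (L : J) (N : Over (Spec A₀)) (γ : (yon (Spec A₀)).obj N ⟶ bc X (ρ.app L)) (y : N.left)
      (q : (Over.mk (Spec.map r) : Over (Spec A₀)) ⟶ Over.mk (Spec.map (ρ.app L))),
      RepWith @IsOpenImmersion γ ∧ q.left = Spec.map (c.ι.app L) ∧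
        Points.map (prod.map (𝟙 X) ((yon (Spec A₀)).map q)) (Points.ofPt jT t) = Points.ofPt γ y := by
  let B : Scheme.{u} := Spec A₀
  haveI : IsConnected Jᵒᵖ := IsCofiltered.isConnected _
  let E : Jᵒᵖ ⥤ Over B :=
    { obj := fun L ↦ Over.mk (Spec.map (ρ.app L.unop))
      map := fun {L M} f ↦ Over.homMk (Spec.map (F.map f.unop)) (by
        dsimp only [Over.mk_hom]
        rw [← Spec.map_comp, ← ρ.naturality f.unop]
        simp)
      map_id := fun L ↦ Over.OverMorphism.ext (by
        show Spec.map (F.map (𝟙 L.unop)) = 𝟙 _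
        rw [CategoryTheory.Functor.map_id, Spec.map_id])
      map_comp := fun f g ↦ Over.OverMorphism.ext (by
        show Spec.map (F.map (g.unop ≫ f.unop)) = _
        rw [CategoryTheory.Functor.map_comp, Spec.map_comp]; rfl) }
  let W : Over B := Over.mk (Spec.map r)
  let eW : Cone E :=
    { pt := W
      π :=
        { app := fun L ↦ Over.homMk (Spec.map (c.ι.app L.unop)) (by
            show _ ≫ Spec.map _ = Spec.map _
            rw [← Spec.map_comp, hr])
          naturality := fun L M f ↦ Over.OverMorphism.ext (by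
            show 𝟙 _ ≫ Spec.map _ = Spec.map _ ≫ Spec.map _
            rw [Category.id_comp, ← Spec.map_comp]
            exact congrArg Spec.map (c.w f.unop).symm) } }
  have hsch : IsLimit ((Over.forget B).mapCone eW) := isLimitOfPreserves Scheme.Spec hc.op
  have he : IsLimit eW := isLimitOfReflects (Over.forget B) hsch
  haveI := AlgSpLimit.preservesLimit_yon E
  let D : Jᵒᵖ ⥤ Sp B :=
    { obj := fun L ↦ X ⨯ (yon B).obj (E.obj L)
      map := fun f ↦ prod.map (𝟙 X) ((yon B).map (E.map f))
      map_id := fun L ↦ by rw [E.map_id, CategoryTheory.Functor.map_id, prod.map_id_id]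
      map_comp := fun f g ↦ by
        rw [E.map_comp, Functor.map_comp, prod.map_map, Category.id_comp] }
  let cD : Cone D :=
    { pt := X ⨯ (yon B).obj W
      π :=
        { app := fun L ↦ prod.map (𝟙 X) ((yon B).map (eW.π.app L))
          naturality := fun L M f ↦ by
            refine (Category.id_comp _).trans ?_
            show _ = _ ≫ prod.map _ _
            rw [prod.map_map, Category.id_comp, ← Functor.map_comp, eW.w] } }
  let L₀ : Jᵒᵖ := op (IsFiltered.nonempty (C := J)).some
  have hfst : ∀ (s : Cone D) (L : Jᵒᵖ), s.π.app L ≫ prod.fst = s.π.app L₀ ≫ prod.fst := by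
    intro s L
    obtain ⟨M, a, b, -⟩ := IsCofilteredOrEmpty.cone_objs L L₀
    rw [← s.w a, ← s.w b]
    simp [D]
  let sE : Cone D → Cone (E ⋙ yon B) := fun s ↦
    { pt := s.pt
      π :=
        { app := fun L ↦ s.π.app L ≫ prod.snd
          naturality := fun L M f ↦ by
            refine (Category.id_comp _).trans ?_
            rw [← s.w f]
            simp [D] } }
  let hEy := isLimitOfPreserves (yon B) he
  have hcD : IsLimit cD :=
    { lift := fun s ↦ prod.lift (s.π.app L₀ ≫ prod.fst) (hEy.lift (sE s))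
      fac := fun s L ↦ by
        show _ ≫ prod.map _ _ = _
        apply prod.hom_ext
        · rw [Category.assoc, prod.map_fst, Category.comp_id, prod.lift_fst]
          exact (hfst s L).symm
        · rw [Category.assoc, prod.map_snd, prod.lift_snd_assoc]
          exact hEy.fac (sE s) L
      uniq := fun s m hm ↦ by
        apply prod.hom_ext
        · rw [prod.lift_fst, ← hm L₀]
          simp [cD]
        · rw [prod.lift_snd]
          exact hEy.uniq (sE s) _ fun L ↦ by simp [sE, ← hm L, cD] }
  have hDa : ∀ L M (f : L ⟶ M), IsAffineMor (D.map f) := fun L M f ↦ by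
    haveI : IsAffine (E.obj L).left := inferInstanceAs (IsAffine (Spec (F.obj L.unop)))
    haveI : IsAffine (E.obj M).left := inferInstanceAs (IsAffine (Spec (F.obj M.unop)))
    refine Perm.isAffineMor_baseChange (fst := (prod.snd : D.obj L ⟶ _)) (g := (prod.snd : D.obj M ⟶ _))
      ?_ (AffineDescent.isAffineMor_iff.2
        ((AlgSp.repWith_yon_map_iff _ (E.map f)).2 (isAffineHom_of_isAffine _)))
    exact isPullback_of_yon (by simp [D])
      (fun U p q h1 h2 ↦ prod.hom_ext (by simpa [D] using congrArg (· ≫ prod.fst) h2) h1)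
      fun U p q w ↦ ⟨prod.lift (q ≫ prod.fst) p, prod.lift_snd _ _, prod.hom_ext
        (by show (_ ≫ prod.map _ _) ≫ _ = _
            rw [Category.assoc, prod.map_fst, Category.comp_id, prod.lift_fst])
        (by show (_ ≫ prod.map _ _) ≫ _ = _
            rw [Category.assoc, prod.map_snd, prod.lift_snd_assoc]; exact w)⟩
  obtain ⟨L, hL⟩ := AlgSpLimit.exists_affine_open_stage
    (fun L ↦ (qcqs_bc hX hqc hqs (ρ.app L.unop)).1) hDa hcD
    (fun L ↦ (qcqs_bc hX hqc hqs (ρ.app L.unop)).2.1)
    (fun L ↦ (qcqs_bc hX hqc hqs (ρ.app L.unop)).2.2) jT hjT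
  obtain ⟨N, γ, w, hγ, hw⟩ := hL (𝟙 L)
  obtain ⟨w', rfl⟩ := (yon B).map_surjective w
  refine ⟨L.unop, N, γ, w'.left t, eW.π.app L, hγ, rfl, ?_⟩
  rw [← AlgSpace.ofPt_yon_map_comp, hw, Points.map_ofPt]

end Stage

variable {k : Type u} [Field k] {kb : Type u} [Field kb] [Algebra k kb] [IsAlgClosed kb]

set_option maxHeartbeats 1000000 in
/-- A point of the base change to an algebraically closed field below a schematic point of a further
base change to a field is schematic (quasi-compact case). -/
theorem exists_scheme_nhd_of_qcqs {X : Sp (Spec (CommRingCat.of k))} (hX : IsAlgSpace X)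
    (hqc : IsQuasiCompactSp X) (hqs : IsQuasiSeparatedSp X) (K : Type u) [Field K] [Algebra k K]
    [Algebra kb K] [IsScalarTower k kb K]
    (c₀ : (Over.mk (Spec.map (CommRingCat.ofHom (algebraMap k K))) : Over (Spec (CommRingCat.of k))) ⟶
      Over.mk (Spec.map (CommRingCat.ofHom (algebraMap k kb))))
    (hc₀ : c₀.left = Spec.map (CommRingCat.ofHom (algebraMap kb K)))
    {T : Over (Spec (CommRingCat.of k))} [IsAffine T.left]
    (jT : (yon (Spec (CommRingCat.of k))).obj T ⟶ bc X (CommRingCat.ofHom (algebraMap k K)))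
    (hjT : RepWith @IsOpenImmersion jT) (t : T.left) :
    ∃ (V : Sp (Spec (CommRingCat.of k))) (j : V ⟶ bc X (CommRingCat.ofHom (algebraMap k kb))),
      RepWith @IsOpenImmersion j ∧ V.obj.IsRepresentable ∧
      Points.map (prod.map (𝟙 X) ((yon _).map c₀)) (Points.ofPt jT t) ∈ Set.range (Points.map j) := by
  let B : Scheme.{u} := Spec (CommRingCat.of k)
  haveI : IsFiltered (FGSub kb K) := isFiltered_of_directed_le_nonempty (FGSub kb K)
  let F : FGSub kb K ⥤ CommRingCat.{u} :=
    { obj := fun A => CommRingCat.of A.1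
      map := fun f => CommRingCat.ofHom (Subalgebra.inclusion (Subtype.coe_le_coe.2 f.le)).toRingHom
      map_id := fun _ => by ext x; rfl
      map_comp := fun _ _ => by ext x; rfl }
  let ρ : (Functor.const (FGSub kb K)).obj (CommRingCat.of k) ⟶ F :=
    { app := fun A => CommRingCat.ofHom ((algebraMap kb A.1).comp (algebraMap k kb))
      naturality := fun _ _ _ => by ext x; rfl }
  let c : Cocone F :=
    { pt := CommRingCat.of K
      ι := { app := fun A => CommRingCat.ofHom A.1.val.toRingHom
             naturality := fun _ _ _ => by ext x; rfl } }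
  haveI : HasColimit F := inferInstance
  haveI : ReflectsColimit F (forget CommRingCat.{u}) :=
    reflectsColimit_of_reflectsIsomorphisms _ _
  let hc : IsColimit c := isColimitOfReflects (forget CommRingCat.{u})
    (Types.FilteredColimit.isColimitOf _ _ (fun x => by
      let x' : K := x
      exact ⟨⟨Algebra.adjoin kb {x'}, Subalgebra.fg_adjoin_finset {x'} |> fun h => by simpa using h⟩,
        ⟨x', Algebra.self_mem_adjoin_singleton kb x'⟩, rfl⟩) fun i j xi xj e => by
      obtain ⟨m, him, hjm⟩ := exists_ge_ge i j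
      exact ⟨m, homOfLE him, homOfLE hjm, Subtype.ext e⟩)
  obtain ⟨A, N, γ, y, q₁, hγ, hq₁, hy⟩ := exists_open_stage F ρ c hc (CommRingCat.ofHom (algebraMap k K))
    (fun A => by ext x; exact (IsScalarTower.algebraMap_apply k kb K x).symm) hX hqc hqs jT hjT t
  haveI : Algebra.FiniteType kb A.1 := A.1.fg_iff_finiteType.1 A.2
  let EA : Over B := Over.mk (Spec.map (ρ.app A))
  let b : Over B := Over.mk (Spec.map (CommRingCat.ofHom (algebraMap k kb)))
  let tA : EA ⟶ b := Over.homMk (Spec.map (CommRingCat.ofHom (algebraMap kb A.1))) (by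
    show Spec.map _ ≫ Spec.map _ = Spec.map _
    rw [← Spec.map_comp, ← CommRingCat.ofHom_comp])
  let μA : bc X (ρ.app A) ⟶ bc X (CommRingCat.ofHom (algebraMap k kb)) := prod.map (𝟙 X) ((yon B).map tA)
  have hy' : Points.map (prod.map (𝟙 X) ((yon _).map c₀)) (Points.ofPt jT t) =
      Points.map μA (Points.ofPt γ y) := by
    rw [← hy, ← Points.map_comp]
    congr 1
    show _ = prod.map _ _ ≫ prod.map _ _
    rw [prod.map_map, Category.comp_id, ← Functor.map_comp]
    congr 2
    refine Over.OverMorphism.ext ?_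
    show c₀.left = q₁.left ≫ Spec.map _
    rw [hq₁, hc₀, ← Spec.map_comp]
    congr 1
  rw [hy']
  let Y := bc X (CommRingCat.ofHom (algebraMap k kb))
  have hY : IsAlgSpace Y := AlgSpace.isAlgSpace_prod hX (IsAlgSpace.yon_obj _)
  -- the space of the point times the stage
  obtain ⟨U, a, ha, hs⟩ := hY.atlas
  obtain ⟨u, hu⟩ := AlgSpace.surjective_ofPt hs (Points.map μA (Points.ofPt γ y))
  let EL : Over B := Over.mk (U.left.fromSpecResidueField u ≫ U.hom)
  let iL : EL ⟶ U := Over.homMk (U.left.fromSpecResidueField u) rfl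
  let pL : EL.left := IsLocalRing.closedPoint (U.left.residueField u)
  have hsub : ∀ q : EL.left, q = pL := fun q =>
    Subsingleton.elim (α := PrimeSpectrum (U.left.residueField u)) _ _
  let qL : (yon B).obj EL ⟶ Y := (yon B).map iL ≫ a
  have hqL : Points.ofPt qL pL = Points.map μA (Points.ofPt γ y) :=
    ((AlgSpace.ofPt_yon_map_comp iL a pL).trans
      (congrArg _ (Scheme.fromSpecResidueField_apply u _))).trans hu
  obtain ⟨sL, hsL⟩ := (yon B).map_surjective (qL ≫ prod.snd)
  let Q := pullback sL tA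
  have sQ := (IsPullback.of_hasPullback sL tA).map (yon B)
  let l : (yon B).obj Q ⟶ bc X (ρ.app A) :=
    prod.lift ((yon B).map (pullback.fst sL tA) ≫ qL ≫ prod.fst) ((yon B).map (pullback.snd sL tA))
  have sqQ : IsPullback l ((yon B).map (pullback.fst sL tA)) μA qL := by
    refine AlgSpace.isPullback_of_yon (prod.hom_ext ?_ ?_)
      (fun W p r h1 h2 => sQ.hom_ext h2 ?_) fun W p r w => ?_
    · simp [μA, l]
    · simp only [μA, l, Category.assoc, prod.map_snd, prod.lift_snd_assoc]
      rw [← hsL, sQ.w]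
    · simpa [l] using congrArg (· ≫ prod.snd) h1
    · have w₁ : r ≫ (yon B).map sL = (p ≫ prod.snd) ≫ (yon B).map tA := by
        rw [hsL]
        simpa [μA] using (congrArg (· ≫ prod.snd) w).symm
      refine ⟨sQ.lift r (p ≫ prod.snd) w₁, prod.hom_ext ?_ ?_, sQ.lift_fst _ _ _⟩
      · simp [l]
        simpa [μA] using (congrArg (· ≫ prod.fst) w).symm
      · simp [l]
  obtain ⟨w, hw, -⟩ := AlgSpace.exists_of_isPullback sqQ (Points.ofPt γ y)
    (Points.ofScheme EL pL) (by rw [← Points.ofPt_eq_map_ofScheme]; exact hqL.symm)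
  let O : Set Q.left := Points.ofPt l ⁻¹' Set.range (Points.map γ)
  have hO : IsOpen O := (AlgSpace.isOpenEmbedding_map hγ).isOpen_range.preimage (Points.continuous_ofPt l)
  have hwO : Points.toScheme Q w ∈ O :=
    ⟨Points.ofScheme N y, by
      rw [← Points.ofPt_eq_map_ofScheme, Points.ofPt_eq_map_ofScheme l, Points.ofScheme_toScheme, hw]⟩
  have sqL := (IsPullback.of_hasPullback sL tA).map (Over.forget B)
  haveI : UniversallyOpen (pullback.snd sL tA).left :=
    MorphismProperty.of_isPullback (P := @UniversallyOpen) sqL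
      (ActSep.universallyOpen_fieldPoint kb (U.left.residueField u) sL.left).1
  have hImo : IsOpen ((pullback.snd sL tA).left '' O) :=
    (pullback.snd sL tA).left.isOpenMap O hO
  -- a rational point of the stage
  haveI : LocallyOfFiniteType tA.left :=
    (HasRingHomProperty.Spec_iff (P := @LocallyOfFiniteType)).2
      (RingHom.finiteType_algebraMap.2 inferInstance)
  haveI : JacobsonSpace ↥b.left := inferInstanceAs (JacobsonSpace ↥(Spec (CommRingCat.of kb)))
  haveI : JacobsonSpace ↥EA.left := LocallyOfFiniteType.jacobsonSpace tA.left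
  obtain ⟨_, ⟨q₀, hq₀, rfl⟩, hcl⟩ :=
    nonempty_inter_closedPoints ⟨_, Set.mem_image_of_mem (pullback.snd sL tA).left hwO⟩
      hImo.isLocallyClosed
  let σ₀ := (pointEquivClosedPoint tA.left).symm ⟨_, hcl⟩
  have hσ₀ : σ₀.1 (IsLocalRing.closedPoint kb) = (pullback.snd sL tA).left q₀ :=
    congrArg Subtype.val ((pointEquivClosedPoint tA.left).apply_symm_apply ⟨_, hcl⟩)
  let σ : b ⟶ EA := Over.homMk σ₀.1 (by
    rw [← Over.w tA]
    exact (Category.assoc _ _ _).symm.trans ((congrArg (· ≫ b.hom) σ₀.2).trans (Category.id_comp _)))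
  have hσ : σ ≫ tA = 𝟙 b := Over.OverMorphism.ext σ₀.2
  let s : Y ⟶ bc X (ρ.app A) := prod.map (𝟙 X) ((yon B).map σ)
  -- the fibre over the rational point
  let ι₀ : EL ⟶ Q := pullback.lift (𝟙 EL) (sL ≫ σ) (by
    rw [Category.id_comp, Category.assoc, hσ, Category.comp_id])
  have sqι : IsPullback ((yon B).map ι₀) ((yon B).map sL) ((yon B).map (pullback.snd sL tA))
      ((yon B).map σ) := by
    refine AlgSpace.isPullback_of_yon ?_ (fun W p r h1 h2 => ?_) fun W p r w => ?_
    · rw [← Functor.map_comp, ← Functor.map_comp, pullback.lift_snd]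
    · have h := congrArg (· ≫ (yon B).map (pullback.fst sL tA)) h1
      simp only [Category.assoc, ← Functor.map_comp, ι₀, pullback.lift_fst] at h
      simpa using h
    · have hr : (p ≫ (yon B).map (pullback.fst sL tA)) ≫ (yon B).map sL = r := by
        rw [Category.assoc, sQ.w, ← Category.assoc, w, Category.assoc, ← Functor.map_comp, hσ,
          CategoryTheory.Functor.map_id, Category.comp_id]
      refine ⟨p ≫ (yon B).map (pullback.fst sL tA), sQ.hom_ext ?_ ?_, hr⟩
      · rw [Category.assoc, ← Functor.map_comp, pullback.lift_fst]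
        simp
      · rw [Category.assoc, ← Functor.map_comp, pullback.lift_snd, Functor.map_comp, w,
          ← Category.assoc, hr]
  let pb : b.left := IsLocalRing.closedPoint kb
  obtain ⟨w', hw', -⟩ := AlgSpace.exists_of_isPullback sqι (Points.ofScheme Q q₀)
    (Points.ofScheme b pb)
    (by
      rw [← Points.ofPt_eq_map_ofScheme, ← Points.ofPt_eq_map_ofScheme,
        ← Points.ofScheme_toScheme EA (Points.ofPt _ q₀),
        ← Points.ofScheme_toScheme EA (Points.ofPt _ pb),
        Points.toScheme_ofPt, Points.toScheme_ofPt]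
      exact congrArg _ hσ₀.symm)
  obtain ⟨v', rfl⟩ : ∃ v', Points.ofScheme EL v' = w' := ⟨_, Points.ofScheme_toScheme EL w'⟩
  -- the open subscheme
  obtain ⟨qN, hqN⟩ := (yon B).map_surjective (γ ≫ prod.snd)
  let P := pullback qN σ
  have sP := (IsPullback.of_hasPullback qN σ).map (yon B)
  let aP : (yon B).obj P ⟶ Y :=
    prod.lift ((yon B).map (pullback.fst qN σ) ≫ γ ≫ prod.fst) ((yon B).map (pullback.snd qN σ))
  have sqU : IsPullback ((yon B).map (pullback.fst qN σ)) aP γ s := by
    refine AlgSpace.isPullback_of_yon (prod.hom_ext ?_ ?_)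
      (fun W p r h1 h2 => sP.hom_ext h1 ?_) fun W p r w => ?_
    · simp [s, aP]
    · rw [Category.assoc, ← hqN, sP.w]
      simp [s, aP]
    · simpa [aP] using congrArg (· ≫ prod.snd) h2
    · have w' : p ≫ (yon B).map qN = (r ≫ prod.snd) ≫ (yon B).map σ := by
        rw [hqN]
        simpa [s] using congrArg (· ≫ prod.snd) w
      refine ⟨sP.lift p (r ≫ prod.snd) w', sP.lift_fst _ _ _, prod.hom_ext ?_ ?_⟩
      · simp [aP]
        simpa [s] using congrArg (· ≫ prod.fst) w
      · simp [aP]
  refine ⟨_, aP, AlgSpace.repWith_baseChange sqU hγ, AlgSpDecent.OpenScheme.isRepresentable_yon P, ?_⟩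
  obtain ⟨z, hz⟩ := (show Points.ofPt l q₀ ∈ Set.range (Points.map γ) from hq₀)
  have hls : (yon B).map ι₀ ≫ l = qL ≫ s := by
    refine prod.hom_ext ?_ ?_
    · simp only [l, s, Category.assoc, prod.lift_fst, prod.map_fst, Category.comp_id]
      rw [← Category.assoc, ← Functor.map_comp, pullback.lift_fst]
      simp
    · simp only [l, s, Category.assoc, prod.lift_snd, prod.map_snd]
      rw [← Functor.map_comp, pullback.lift_snd, Functor.map_comp, hsL, Category.assoc]
  obtain ⟨v, -, hv⟩ := AlgSpace.exists_of_isPullback sqU z (Points.ofPt qL pL) (by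
    rw [hz, Points.ofPt_eq_map_ofScheme, ← hw', ← Points.map_comp, hls, ← Points.ofPt_eq_map_ofScheme,
      Points.map_ofPt, hsub v'])
  exact ⟨v, hv.trans hqL⟩

/-- A point of the base change to an algebraically closed field below a schematic point of a further
base change to a field is schematic. -/
theorem exists_scheme_nhd {X : Sp (Spec (CommRingCat.of k))} (hX : IsAlgSpace X)
    (hqs : IsQuasiSeparatedSp X) (K : Type u) [Field K] [Algebra k K]
    [Algebra kb K] [IsScalarTower k kb K]
    (c₀ : (Over.mk (Spec.map (CommRingCat.ofHom (algebraMap k K))) : Over (Spec (CommRingCat.of k))) ⟶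
      Over.mk (Spec.map (CommRingCat.ofHom (algebraMap k kb))))
    (hc₀ : c₀.left = Spec.map (CommRingCat.ofHom (algebraMap kb K)))
    {W : Sp (Spec (CommRingCat.of k))} (hW : W.obj.IsRepresentable)
    (jW : W ⟶ bc X (CommRingCat.ofHom (algebraMap k K))) (hjW : RepWith @IsOpenImmersion jW)
    (w : Points W) :
    ∃ (V : Sp (Spec (CommRingCat.of k))) (j : V ⟶ bc X (CommRingCat.ofHom (algebraMap k kb))),
      RepWith @IsOpenImmersion j ∧ V.obj.IsRepresentable ∧
      Points.map (prod.map (𝟙 X) ((yon _).map c₀)) (Points.map jW w) ∈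
        Set.range (Points.map j) := by
  let B : Scheme.{u} := Spec (CommRingCat.of k)
  obtain ⟨X₀, i, hX₀, hX₀c, hX₀s, hi, hxi⟩ := exists_qc_nhd hX hqs
    (Points.map (prod.fst : bc X (CommRingCat.ofHom (algebraMap k K)) ⟶ X) (Points.map jW w))
  obtain ⟨x₀, hx₀⟩ := hxi
  let r := CommRingCat.ofHom (algebraMap k K)
  let iK : bc X₀ r ⟶ bc X r := prod.map i (𝟙 _)
  have hiK : RepWith @IsOpenImmersion iK := repWith_bc_map hi _
  have sq : IsPullback (pullback.fst jW iK) (pullback.snd jW iK) jW iK :=
    IsPullback.of_hasPullback _ _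
  have sqK : IsPullback (prod.fst : bc X₀ r ⟶ X₀) iK i (prod.fst : bc X r ⟶ X) :=
    isPullback_of_yon (by simp [iK])
      (fun U p q h1 h2 ↦ prod.hom_ext h1 (by simpa [iK] using congrArg (· ≫ prod.snd) h2))
      fun U p q w ↦ ⟨prod.lift p (q ≫ prod.snd), prod.lift_fst _ _,
        prod.hom_ext (by simp [iK]; exact w) (by simp [iK])⟩
  obtain ⟨z, -, hz⟩ := AlgSpace.exists_of_isPullback sqK x₀ (Points.map jW w) hx₀
  obtain ⟨v, -, hv⟩ := AlgSpace.exists_of_isPullback sq w z hz.symm
  have hP : (pullback jW iK).obj.IsRepresentable :=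
    isRepresentable_of_open (AlgSpace.repWith_baseChange sq.flip hiK) hW
  obtain ⟨M, ⟨hM⟩⟩ := hP.has_representation
  let e := AlgSp.isoOfRepresentableBy hM
  obtain ⟨_, ⟨N, hN, rfl⟩, hmN, -⟩ := M.left.isBasis_affineOpens.exists_subset_of_mem_open
    (Set.mem_univ (Points.toScheme M (Points.map e.inv v))) isOpen_univ
  change M.left.Opens at N
  let NO : Over B := Over.mk (N.ι ≫ M.hom)
  let wN : NO ⟶ M := Over.homMk N.ι rfl
  haveI : IsAffine NO.left := hN
  obtain ⟨V, j, hj, hV, hmem⟩ := exists_scheme_nhd_of_qcqs hX₀ hX₀c hX₀s K c₀ hc₀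
    ((yon B).map wN ≫ e.hom ≫ pullback.snd jW iK)
    (AlgSpace.repWith_yon_map_comp (inferInstanceAs (IsOpenImmersion N.ι))
      ((AlgSpace.repWith_iso_comp_iff _ e.hom _).2 (AlgSpace.repWith_baseChange sq hjW)))
    (⟨_, hmN⟩ : N.toScheme)
  refine ⟨V, j ≫ prod.map i (𝟙 _), AlgSpace.repWith_comp hj (repWith_bc_map hi _), hV, ?_⟩
  obtain ⟨y, hy⟩ := hmem
  refine ⟨y, ?_⟩
  rw [Points.map_comp, hy]
  have h1 : Points.ofPt ((yon B).map wN ≫ e.hom ≫ pullback.snd jW iK) (⟨_, hmN⟩ : N.toScheme) = z := by
    refine (AlgSpace.ofPt_yon_map_comp wN _ (⟨_, hmN⟩ : N.toScheme)).trans ?_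
    show Points.ofPt _ (Points.toScheme M _) = z
    rw [Points.ofPt_eq_map_ofScheme, Points.ofScheme_toScheme, ← Points.map_comp,
      e.inv_hom_id_assoc, hv]
  rw [h1, ← hz, ← Points.map_comp, ← Points.map_comp]
  simp [iK]

end Groth.Agent.H8.AlgClosedSchLocus.Basic
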